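import Cfsg.Agent.S1854
import Cfsg.Agent.S0223
import Cfsg.Agent.S0222
import Cfsg.Agent.Lib.Goldschmidt.Defs
import Cfsg.Prelude.Def_Quasithin
import Cfsg.Prelude.Def_QuasithinSetup

/-!
# A unique maximal 2-local containing the conjugation family (S1847)

The maximal 2-local `M` controls fusion, so its normal 2-subgroups are strongly closed; Goldschmidt's
theorem gives a strongly embedded subgroup (`M` itself when the Sylow 2-subgroup is abelian).
-/

set_option autoImplicit false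

namespace CfsgLib.UniqueTwoLocal

open Subgroup

universe u

variable {G : Type u} [Group G] [Finite G]

/-- Conjugacy of elements of `T` is realised in `M`. -/
theorem exists_mem_conj [IsSimpleGroup G] (hG : ¬ IsMulCommutative G) (hK : Cfsg.IsKProper G)
    (T : Sylow 2 G) (M : Subgroup G)
    (h : ∀ D ∈ Cfsg.agConjFamily (T : Subgroup G), normalizer (D : Set G) ≤ M)
    {a g : G} (ha : a ∈ (T : Subgroup G)) (hg : g * a * g⁻¹ ∈ (T : Subgroup G)) :
    ∃ m ∈ M, m * a * m⁻¹ = g * a * g⁻¹ := by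
  haveI : Fact (Nat.Prime 2) := ⟨Nat.prime_two⟩
  rcases eq_or_ne a 1 with rfl | ha1
  · exact ⟨1, one_mem _, by simp⟩
  obtain ⟨n, D, x, c, hn, hDT, hx, hC, hdir, hidx, hA, hmem, hc, hgc⟩ :=
    Cfsg.Agent.S1854.result hG hK T {a} (Set.singleton_subset_iff.2 ha) g⁻¹ (by
      rintro _ ⟨b, hb, rfl⟩
      rw [Set.mem_singleton_iff.1 hb]
      show g⁻¹⁻¹ * a * g⁻¹ ∈ (T : Subgroup G)
      rwa [inv_inv])
  have hne : ∀ i, D i ≠ ⊥ := by
    intro i hbot
    obtain ⟨b, hb, hb1⟩ : ∃ b : G, b ∈ D i ∧ b ≠ 1 := by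
      rcases i with ⟨_ | k, hk⟩
      · exact ⟨a, hA hk rfl, ha1⟩
      · exact ⟨_, hmem ⟨k, by omega⟩ hk ⟨a, rfl, rfl⟩, fun e => ha1 (by
          have e' := congrArg (fun z => ((List.ofFn x).take (k + 1)).prod * z *
            (((List.ofFn x).take (k + 1)).prod)⁻¹) e
          simpa [mul_assoc] using e')⟩
    exact hb1 ((Subgroup.eq_bot_iff_forall _).1 hbot b hb)
  have hfam : ∀ i, D i ∈ Cfsg.agConjFamily (T : Subgroup G) := by
    intro i
    obtain ⟨-, -, hcm, -, hsup⟩ := hdir i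
    refine ⟨hne i, hDT i, ?_, hC i, ?_, hsup⟩
    · have hp : IsPGroup 2 ↥(((T : Subgroup G) ⊓ normalizer (D i : Set G)).subgroupOf
          (normalizer (D i : Set G))) :=
        (T.isPGroup'.to_le inf_le_left).of_equiv (subgroupOfEquivOfLe inf_le_right).symm
      exact ⟨hp.toSylow (hidx i), rfl⟩
    · exact commutator_eq_bot_iff_le_centralizer.2 fun o ho =>
        mem_centralizer_iff.2 fun d hd => (hcm o ho d hd).symm
  have hm : (List.ofFn x).prod ∈ M := Subgroup.list_prod_mem M fun y hy => by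
    obtain ⟨i, rfl⟩ := (List.mem_ofFn' x y).1 hy
    exact h _ (hfam i) (hx i)
  set m := (List.ofFn x).prod
  have hca : c * a = a * c := (mem_centralizer_iff.1 hc a rfl).symm
  refine ⟨m⁻¹, inv_mem hm, ?_⟩
  have hg' : g = m⁻¹ * c⁻¹ := by rw [← inv_inv g, hgc, mul_inv_rev]
  rw [hg', inv_inv, mul_inv_rev, inv_inv, inv_inv]
  calc m⁻¹ * a * m = m⁻¹ * (c⁻¹ * (a * c)) * m := by rw [← hca]; group
    _ = m⁻¹ * c⁻¹ * a * (c * m) := by group

theorem stronglyClosed_of_normal [IsSimpleGroup G] (hG : ¬ IsMulCommutative G) (hK : Cfsg.IsKProper G)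
    (T : Sylow 2 G) (M : Subgroup G) (hTM : (T : Subgroup G) ≤ M)
    (h : ∀ D ∈ Cfsg.agConjFamily (T : Subgroup G), normalizer (D : Set G) ≤ M)
    (U : Subgroup G) (hMU : M ≤ normalizer (U : Set G)) (hU : IsPGroup 2 ↥U) :
    Cfsg.IsStronglyClosed U (T : Subgroup G) := by
  have hle : U ≤ (T : Subgroup G) := by
    have hp := hU.to_sup_of_normal_left' T.isPGroup' (hTM.trans hMU)
    exact le_sup_left.trans (T.is_maximal' hp le_sup_right).le
  refine ⟨hle, fun a ha g hg => ?_⟩
  obtain ⟨m, hm, he⟩ := exists_mem_conj hG hK T M h (hle ha) hg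
  rw [← he]
  exact (mem_normalizer_iff.1 (hMU hm) a).1 ha

/-- S1847 from Goldschmidt's theorem. -/
theorem classify [IsSimpleGroup G] (hG : ¬ IsMulCommutative G)
    (hsca : CfsgLib.Goldschmidt.HasSCA G → CfsgLib.Goldschmidt.Concl G) (hQ : Cfsg.IsQTKE G)
    (T : Sylow 2 G) (M : Subgroup G) (hM : Cfsg.maxTwoLocalsContaining (T : Subgroup G) = {M})
    (h : ∀ D ∈ Cfsg.agConjFamily (T : Subgroup G), normalizer (D : Set G) ≤ M) :
    (∀ U : Subgroup G, U ≤ M → M ≤ normalizer (U : Set G) → IsPGroup 2 ↥U →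
        Cfsg.IsStronglyClosed U (T : Subgroup G)) ∧
      Cfsg.IsBenderGroup G := by
  haveI : Fact (Nat.Prime 2) := ⟨Nat.prime_two⟩
  have hK : Cfsg.IsKProper G := hQ.2.1
  obtain ⟨⟨⟨Q, hQp, hQ1, hMQ⟩, hMmax⟩, hTM⟩ :
      M ∈ Cfsg.maxTwoLocalsContaining (T : Subgroup G) := by rw [hM]; rfl
  refine ⟨fun U _ => stronglyClosed_of_normal hG hK T M hTM h U, ?_⟩
  have hMtop : M ≠ ⊤ := by
    intro htop
    have hQn : Q.Normal := normalizer_eq_top_iff.1 (hMQ.symm.trans htop)
    rcases hQn.eq_bot_or_eq_top with e | e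
    · exact hQ1 e
    · subst e
      have hp : IsPGroup 2 G := hQp.of_equiv topEquiv
      haveI := hp.center_nontrivial
      rcases (inferInstance : (center G).Normal).eq_bot_or_eq_top with e | e
      · exact (Subgroup.nontrivial_iff_ne_bot _).1 inferInstance e
      · exact hG ⟨⟨fun a b => (mem_center_iff.1 (e ▸ mem_top b : b ∈ center G) a)⟩⟩
  -- the centre of `Q`
  let A := (center ↥Q).map Q.subtype
  have hAQ : A ≤ Q := map_subtype_le _
  have hA1 : A ≠ ⊥ := by
    haveI : Nontrivial ↥Q := (nontrivial_iff_ne_bot Q).2 hQ1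
    haveI := hQp.center_nontrivial
    exact fun e => (nontrivial_iff_ne_bot _).1 inferInstance
      ((map_eq_bot_iff_of_injective _ Q.subtype_injective).1 e)
  have hMA : M ≤ normalizer (A : Set G) := by
    intro g hg
    rw [hMQ] at hg
    refine mem_normalizer_iff.2 fun a => ?_
    have hmem : ∀ b : G, b ∈ A ↔ b ∈ Q ∧ ∀ q ∈ Q, q * b = b * q := fun b => by
      constructor
      · rintro ⟨z, hz, rfl⟩
        exact ⟨z.2, fun q hq => congrArg Subtype.val (mem_center_iff.1 hz ⟨q, hq⟩)⟩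
      · rintro ⟨hb, hc⟩
        exact ⟨⟨b, hb⟩, mem_center_iff.2 fun q => Subtype.ext (hc q q.2), rfl⟩
    have hn := mem_normalizer_iff.1 hg
    rw [hmem, hmem]
    refine and_congr (hn a) ⟨fun hc q hq => ?_, fun hc q hq => ?_⟩
    · have hq' : g⁻¹ * q * g ∈ Q := by
        rw [hn]; simpa [mul_assoc] using hq
      have := hc _ hq'
      calc q * (g * a * g⁻¹) = g * (g⁻¹ * q * g * a) * g⁻¹ := by group
        _ = g * (a * (g⁻¹ * q * g)) * g⁻¹ := by rw [this]
        _ = _ := by group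
    · have := hc _ ((hn q).1 hq)
      calc q * a = g⁻¹ * (g * q * g⁻¹ * (g * a * g⁻¹)) * g := by group
        _ = g⁻¹ * (g * a * g⁻¹ * (g * q * g⁻¹)) * g := by rw [this]
        _ = _ := by group
  have hAc : IsMulCommutative ↥A := ⟨⟨fun ⟨a, ha⟩ ⟨b, hb⟩ => Subtype.ext (by
    obtain ⟨a, ha', rfl⟩ := ha
    obtain ⟨b, hb', rfl⟩ := hb
    exact congrArg Q.subtype (mem_center_iff.1 hb' a))⟩⟩
  have hsc := stronglyClosed_of_normal hG hK T M hTM h A hMA (hQp.to_le hAQ)
  obtain ⟨H, hH⟩ : ∃ H : Subgroup G, Cfsg.IsStronglyEmbedded H := by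
    rcases hsca ⟨T, A, hA1, hAc, hsc⟩ with ⟨S, hS⟩ | he
    · refine ⟨M, (Cfsg.Agent.S0223.result M hMtop ?_).2 ⟨?_, ?_⟩⟩
      · haveI : Nontrivial ↥Q := (nontrivial_iff_ne_bot Q).2 hQ1
        have h2 : 2 ∣ Nat.card Q := hQp.card_eq_or_dvd.resolve_left (fun e =>
          not_subsingleton ↥Q (Nat.card_eq_one_iff_unique.1 e).1)
        exact even_iff_two_dvd.2 (h2.trans (card_dvd_of_le (hMQ ▸ le_normalizer)))
      · have hT : ∀ a ∈ (T : Subgroup G), ∀ b ∈ (T : Subgroup G), a * b = b * a := by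
          intro a ha b hb
          obtain ⟨g, hg⟩ := MulAction.exists_smul_eq G S T
          rw [← hg, Sylow.coe_subgroup_smul] at ha hb
          obtain ⟨a, ha, rfl⟩ := ha
          obtain ⟨b, hb, rfl⟩ := hb
          show g * a * g⁻¹ * (g * b * g⁻¹) = g * b * g⁻¹ * (g * a * g⁻¹)
          have hc : a * b = b * a := congrArg Subtype.val
            (mul_comm' (⟨a, ha⟩ : (S : Subgroup G)) ⟨b, hb⟩)
          calc g * a * g⁻¹ * (g * b * g⁻¹) = g * (a * b) * g⁻¹ := by group
            _ = g * (b * a) * g⁻¹ := by rw [hc]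
            _ = _ := by group
        intro t ht ht2
        have hp : IsPGroup 2 ↥(zpowers (⟨t, ht⟩ : M)) := IsPGroup.of_card (n := 1) (by
          rw [Nat.card_zpowers, pow_one, ← Subgroup.orderOf_coe]; exact ht2)
        obtain ⟨P, hP⟩ := hp.exists_le_sylow
        obtain ⟨m, hm⟩ := MulAction.exists_smul_eq M P (T.subtype hTM)
        have hmt : (m : G) * t * (m : G)⁻¹ ∈ (T : Subgroup G) := by
          have : MulAut.conj m (⟨t, ht⟩ : M) ∈ ((T.subtype hTM : Sylow 2 M) : Subgroup M) := by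
            rw [← hm, Sylow.coe_subgroup_smul]
            exact ⟨_, hP (mem_zpowers _), rfl⟩
          exact this
        set s := (m : G) * t * (m : G)⁻¹ with hs
        have hs2 : orderOf s = 2 := by
          rw [hs, show (m : G) * t * (m : G)⁻¹ = MulAut.conj (m : G) t from rfl,
            (MulAut.conj (m : G)).orderOf_eq, ht2]
        have hloc : Cfsg.IsTwoLocal (normalizer ((zpowers s : Subgroup G) : Set G)) :=
          ⟨zpowers s, IsPGroup.of_card (n := 1) (by rw [Nat.card_zpowers, hs2, pow_one]),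
            fun e => by rw [zpowers_eq_bot] at e; rw [e, orderOf_one] at hs2; omega, rfl⟩
        obtain ⟨N, hN, hNmax⟩ := Finite.exists_le_maximal
          (p := fun N : Subgroup G => Cfsg.IsTwoLocal N) hloc
        have hcN : centralizer ({s} : Set G) ≤ N := by
          refine le_trans (fun y hy => ?_) hN
          rw [mem_normalizer_iff_map_conj_eq, MonoidHom.map_zpowers]
          show zpowers (y * s * y⁻¹) = zpowers s
          rw [mem_centralizer_singleton_iff.1 hy, mul_inv_cancel_right]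
        have hTN : (T : Subgroup G) ≤ N := le_trans
          (fun y hy => mem_centralizer_singleton_iff.2 (hT y hy s hmt)) hcN
        have hNM : N ∈ Cfsg.maxTwoLocalsContaining (T : Subgroup G) :=
          ⟨⟨hNmax.1, fun N' hN' hle => le_antisymm (hNmax.2 hN' hle) hle⟩, hTN⟩
        rw [hM, Set.mem_singleton_iff] at hNM
        intro y hy
        have hy' : (m : G) * y * (m : G)⁻¹ ∈ centralizer ({s} : Set G) := by
          rw [mem_centralizer_singleton_iff, hs]
          calc (m : G) * y * (m : G)⁻¹ * ((m : G) * t * (m : G)⁻¹) = m * (y * t) * (m : G)⁻¹ := by group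
            _ = m * (t * y) * (m : G)⁻¹ := by rw [mem_centralizer_singleton_iff.1 hy]
            _ = _ := by group
        have := hNM ▸ hcN hy'
        simpa [mul_assoc] using mul_mem (mul_mem (inv_mem m.2) this) m.2
      · intro t ht s hs ht2 hs2 hts
        have key : ∀ v ∈ M, orderOf v = 2 → ∃ m ∈ M, m * v * m⁻¹ ∈ (T : Subgroup G) := by
          intro v hv hv2
          have hp : IsPGroup 2 ↥(zpowers (⟨v, hv⟩ : M)) := IsPGroup.of_card (n := 1) (by
            rw [Nat.card_zpowers, pow_one, ← Subgroup.orderOf_coe]; exact hv2)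
          obtain ⟨P, hP⟩ := hp.exists_le_sylow
          obtain ⟨m, hm⟩ := MulAction.exists_smul_eq M P (T.subtype hTM)
          refine ⟨m, m.2, ?_⟩
          have : MulAut.conj m (⟨v, hv⟩ : M) ∈ ((T.subtype hTM : Sylow 2 M) : Subgroup M) := by
            rw [← hm, Sylow.coe_subgroup_smul]
            exact ⟨_, hP (mem_zpowers _), rfl⟩
          exact this
        obtain ⟨p, hp, hpT⟩ := key t ht ht2
        obtain ⟨q, hq, hqT⟩ := key s hs hs2
        obtain ⟨g, hg⟩ := isConj_iff.1 hts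
        obtain ⟨m, hm, hme⟩ := exists_mem_conj hG hK T M h (g := q * g * p⁻¹) hpT (by
          convert hqT using 1
          rw [← hg]; group)
        refine ⟨q⁻¹ * m * p, mul_mem (mul_mem (inv_mem hq) hm) hp, ?_⟩
        calc q⁻¹ * m * p * t * (q⁻¹ * m * p)⁻¹ = q⁻¹ * (m * (p * t * p⁻¹) * m⁻¹) * q := by group
          _ = g * t * g⁻¹ := by rw [hme]; group
          _ = s := hg
    · exact he
  have hna : ∃ a b : G, a * b ≠ b * a := by
    by_contra hcom
    push_neg at hcom
    exact hG ⟨⟨hcom⟩⟩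
  rcases CfsgLib.BenderQ.simple_isBenderType CfsgLib.BenderQ.benderKernel
      CfsgLib.RankOneRecog.rankOneClass hna hH with ⟨F, _, _, ⟨n, hn, hF⟩, he⟩ | h | h
  · haveI : CharP F 2 := charP_of_card_eq_prime_pow hF
    exact Or.inl ⟨F, inferInstance, inferInstance, inferInstance, by
      rw [hF]; exact le_trans (by norm_num) (Nat.pow_le_pow_right (by norm_num) hn), he⟩
  · exact Or.inr (Or.inr h)
  · exact Or.inr (Or.inl h)

end CfsgLib.UniqueTwoLocal
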